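import Groth.Agent.DualCore.TwistUnique
import Groth.Agent.Dual3Gor.Inv
import Groth.Agent.LocCohTransform.RHomDual
import Groth.Agent.LocCohTransform.DualTransfer

/-!
Dualizing complexes of a ring differ by a shift near each prime.
-/

set_option autoImplicit false
set_option linter.style.haveILetI false

universe u

open CategoryTheory CategoryTheory.Limits DerivedCategory TensorProduct

attribute [local instance] HasDerivedCategory.standard

namespace Groth.DualUnique

open Groth.DualCore

variable {A : Type u} [CommRing A] [IsNoetherianRing A] {ω ω' : Dual.D A}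

/-- maps between localizations are fractions -/
lemma exists_lift (L : Type u) [CommRing L] [Algebra A L] [Module.Flat A L] (S : Submonoid A)
    [IsLocalization S L] {X Y : Dual.D A} (hs : Function.Surjective (θ (B := L) X Y))
    (g : (extD A L).obj X ⟶ (extD A L).obj Y) :
    ∃ (s : S) (h : X ⟶ Y), algebraMap A L s • g = (extD A L).map h := by
  obtain ⟨z, rfl⟩ := hs g
  induction z using TensorProduct.induction_on with
  | zero => exact ⟨1, 0, by rw [map_zero, smul_zero, Functor.map_zero]⟩
  | tmul l h =>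
    obtain ⟨⟨r, s⟩, hrs⟩ := IsLocalization.surj S l
    refine ⟨s, r • h, ?_⟩
    rw [θ_tmul, smul_smul, mul_comm, hrs, extD_map_smul]
  | add z z' hz hz' =>
    obtain ⟨s, h, he⟩ := hz
    obtain ⟨s', h', he'⟩ := hz'
    refine ⟨s * s', (s' : A) • h + (s : A) • h', ?_⟩
    rw [map_add, smul_add, Functor.map_add, extD_map_smul, extD_map_smul, ← he, ← he']
    simp only [smul_smul, ← map_mul, Submonoid.coe_mul, mul_comm (s' : A)]

/-- an isomorphism at `p` spreads to a neighbourhood -/
theorem exists_away_iso (hω : Dual.IsDualizing A ω) (hω' : Dual.IsDualizing A ω') (p : Ideal A)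
    [p.IsPrime] (e : (extD A (Localization.AtPrime p)).obj ω ≅ (extD A (Localization.AtPrime p)).obj ω') :
    ∃ g, g ∉ p ∧ Nonempty ((extD A (Localization.Away g)).obj ω ≅
      (extD A (Localization.Away g)).obj ω') := by
  obtain ⟨a, b, ha, hb⟩ := exists_bounds hω
  obtain ⟨a', b', ha', hb'⟩ := exists_bounds hω'
  let L := Localization.AtPrime p
  haveI : IsNoetherianRing L := IsLocalization.isNoetherianRing p.primeCompl _ inferInstance
  obtain ⟨s, h, hh⟩ : ∃ (s : p.primeCompl) (h : ω ⟶ ω'),
      algebraMap A L s • e.hom = (extD A L).map h := exists_lift L p.primeCompl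
    (θ_iso_right ((shiftFunctorZero (Dual.D A) ℤ).app ω')
      (good_of_bounded (B := L) ω ω' a b a' hω.finite_cohomology 0)).2 e.hom
  obtain ⟨t, k, hk⟩ : ∃ (t : p.primeCompl) (k : ω' ⟶ ω),
      algebraMap A L t • e.inv = (extD A L).map k := exists_lift L p.primeCompl
    (θ_iso_right ((shiftFunctorZero (Dual.D A) ℤ).app ω)
      (good_of_bounded (B := L) ω' ω a' b' a hω'.finite_cohomology 0)).2 e.inv
  obtain ⟨c, hc⟩ := hω.toEnd_bijective.2 (h ≫ k)
  obtain ⟨c', hc'⟩ := hω'.toEnd_bijective.2 (k ≫ h)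
  replace hc : c • 𝟙 ω = h ≫ k := hc
  replace hc' : c' • 𝟙 ω' = k ≫ h := hc'
  have hst : IsUnit (algebraMap A L s * algebraMap A L t) :=
    (IsLocalization.map_units L s).mul (IsLocalization.map_units L t)
  have hcp : c ∉ p := fun hmem => by
    have h1 : algebraMap A L c = algebraMap A L s * algebraMap A L t := by
      refine (isDualizing_atPrime p hω).toEnd_bijective.1 ?_
      show algebraMap A L c • 𝟙 _ = _
      rw [← CategoryTheory.Functor.map_id, ← extD_map_smul, hc, Functor.map_comp, ← hh, ← hk,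
        Linear.smul_comp, Linear.comp_smul, smul_smul, e.hom_inv_id, CategoryTheory.Functor.map_id]
    exact (IsLocalization.AtPrime.isUnit_to_map_iff L p _).1 (h1 ▸ hst) hmem
  have hcp' : c' ∉ p := fun hmem => by
    have h1 : algebraMap A L c' = algebraMap A L t * algebraMap A L s := by
      refine (isDualizing_atPrime p hω').toEnd_bijective.1 ?_
      show algebraMap A L c' • 𝟙 _ = _
      rw [← CategoryTheory.Functor.map_id, ← extD_map_smul, hc', Functor.map_comp, ← hh, ← hk,
        Linear.smul_comp, Linear.comp_smul, smul_smul, e.inv_hom_id, CategoryTheory.Functor.map_id]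
    rw [mul_comm] at hst
    exact (IsLocalization.AtPrime.isUnit_to_map_iff L p _).1 (h1 ▸ hst) hmem
  refine ⟨c * c', p.primeCompl.mul_mem hcp hcp', ?_⟩
  let B := Localization.Away (c * c')
  haveI : Module.Flat A B := IsLocalization.flat B (Submonoid.powers (c * c'))
  have hu : IsUnit (algebraMap A B c * algebraMap A B c') := by
    rw [← map_mul]; exact IsLocalization.Away.algebraMap_isUnit _
  obtain ⟨uc, huc⟩ := isUnit_of_mul_isUnit_left hu
  obtain ⟨uc', huc'⟩ := isUnit_of_mul_isUnit_right hu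
  have h1 : (extD A B).map h ≫ (extD A B).map k = (uc : B) • 𝟙 _ := by
    rw [huc, ← Functor.map_comp, ← hc, extD_map_smul, CategoryTheory.Functor.map_id]
  have h2 : (extD A B).map k ≫ (extD A B).map h = (uc' : B) • 𝟙 _ := by
    rw [huc', ← Functor.map_comp, ← hc', extD_map_smul, CategoryTheory.Functor.map_id]
  haveI : IsSplitMono ((extD A B).map h) := ⟨⟨⟨(↑uc⁻¹ : B) • (extD A B).map k, by
    rw [Linear.comp_smul, h1, smul_smul, Units.inv_mul, one_smul]⟩⟩⟩
  haveI : IsSplitEpi ((extD A B).map h) := ⟨⟨⟨(↑uc'⁻¹ : B) • (extD A B).map k, by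
    rw [Linear.smul_comp, h2, smul_smul, Units.inv_mul, one_smul]⟩⟩⟩
  haveI : IsIso ((extD A B).map h) := isIso_of_mono_of_isSplitEpi _
  exact ⟨asIso ((extD A B).map h)⟩

/-- **near each prime two dualizing complexes differ by a shift** -/
theorem exists_away_shift_iso (hω : Dual.IsDualizing A ω) (hω' : Dual.IsDualizing A ω') (p : Ideal A)
    [p.IsPrime] : ∃ g, g ∉ p ∧ ∃ m : ℤ, Nonempty ((extD A (Localization.Away g)).obj ω' ≅
      ((extD A (Localization.Away g)).obj ω)⟦m⟧) := by
  haveI : IsNoetherianRing (Localization.AtPrime p) :=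
    IsLocalization.isNoetherianRing p.primeCompl _ inferInstance
  obtain ⟨n, ⟨e⟩⟩ := exists_shift_iso (isDualizing_atPrime p hω) (isDualizing_atPrime p hω')
  obtain ⟨g, hg, ⟨e'⟩⟩ := exists_away_iso (isDualizing_shift hω n) hω' p
    (((extD A (Localization.AtPrime p)).commShiftIso n).app ω ≪≫ e.symm)
  exact ⟨g, hg, n, ⟨e'.symm ≪≫ ((extD A (Localization.Away g)).commShiftIso n).app ω⟩⟩

/-- `RHom(ω⟦m⟧, ω) = A⟦-m⟧` -/
theorem nonempty_rhom_shift (hω : Dual.IsDualizing A ω) (m : ℤ) (K : DRing.Cx A) [DRing.HasRHomCx K]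
    (eK : DRing.toD K ≅ ω⟦m⟧) :
    ∃ n : ℤ, Nonempty ((DRing.RHomCx K).obj ω ≅ (Dual.inD A A)⟦n⟧) := by
  obtain ⟨a, b, hab⟩ := hω.finite_injective_dimension
  obtain ⟨r⟩ := exists_injRep ω a b hab
  haveI := r.hGE
  haveI : ∀ q, Injective (r.I.X q) := fun q =>
    (Module.injective_iff_injective_object A (r.I.X q)).1 (r.injective q)
  haveI : r.I.IsKInjective := CochainComplex.isKInjective_of_injective r.I r.a
  let c : DerivedCategory.Q.obj (DRing.homCx K r.I) ≅ (DRing.RHomCx K).obj ω :=
    Groth.DAlg.RHomCx.objIso K r.I ≪≫ (DRing.RHomCx K).mapIso r.iso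
  have hH : ∀ i, Nonempty (Dual.HD A ((DRing.RHomCx K).obj ω) i ≃ₗ[A] (ω⟦m⟧ ⟶ ω⟦i⟧)) := fun i => by
    obtain ⟨d⟩ := Groth.LocCohTransform.DualTransfer.nonempty_homology_homCx K r.I i
    exact ⟨((HDCongr c i).symm.trans
      ((((DerivedCategory.homologyFunctorFactors (ModuleCat.{u} A) i).app
        (DRing.homCx K r.I)).toLinearEquiv).trans d)).trans
      (Linear.homCongr A eK ((DerivedCategory.Q.commShiftIso i).app r.I ≪≫
        (shiftFunctor (Dual.D A) i).mapIso r.iso))⟩
  refine ⟨-m, Groth.Dual3Gor.nonempty_iso_shift_of_single_degree _ m (fun j hj => ?_) ?_⟩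
  · haveI := hω.ext_self_subsingleton (j - m) (by omega)
    haveI : Subsingleton (ω⟦m⟧ ⟶ ω⟦j⟧) := ((Linear.homCongr A (Iso.refl _)
      ((shiftFunctorAdd' (Dual.D A) (j - m) m j (by omega)).app ω)).trans
      (shiftHom ω (ω⟦j - m⟧) m).symm).toEquiv.subsingleton
    exact (hH j).some.toEquiv.subsingleton
  · exact (hH m).some.trans ((shiftHom ω ω m).symm.trans
      (LinearEquiv.ofBijective (toEndLin ω) hω.toEnd_bijective).symm)

end Groth.DualUnique
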