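import Groth.Agent.DualUnique.Alg
import Groth.Agent.AffDual.Bidual
import Groth.Agent.Dual3Gor.LocalD
import Groth.Agent.DerivedCoh.Duality.RHomTensor

/-!
Dualizing complexes on a scheme differ by an invertible object.
-/

set_option autoImplicit false
set_option linter.style.haveILetI false

universe u

open CategoryTheory CategoryTheory.Limits AlgebraicGeometry HomologicalComplex

attribute [local instance] HasDerivedCategory.standard

set_option maxHeartbeats 1000000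

namespace Groth.DualUnique

open Groth.DerivedCoh Groth.DerivedCoh.Duality
open Groth.DerivedCoh.KFlat (T IsKFlat)
open Groth.DerivedCoh.ExtZero (resCx restrRHomIso)

variable {X : Scheme.{u}} [IsLocallyNoetherian X]
  [∀ (U V : Scheme.{u}) (j : U ⟶ V) [IsOpenImmersion j], PreservesFiniteLimits (Scheme.Modules.restrictFunctor j)]
  [∀ (R : CommRingCat.{u}), PreservesFiniteLimits (tilde.functor R)]

/-- dualizing complexes have coherent cohomology -/
theorem isCohD_dualizing {K : DCoh.D X} (hK : Dual2.IsDualizingSch X K) : DCoh.IsCohD K := fun i =>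
  Groth.KTheory.Perf.isCoh_of_local fun x => by
    obtain ⟨U, hU, hx, -⟩ := exists_isAffineOpen_mem_and_subset (x := x) (U := ⊤) trivial
    refine ⟨U, hx, Groth.AffDual.Bidual.isCoh_restrict_of_fromSpec hU ?_⟩
    haveI : IsNoetherianRing Γ(X, U) := IsLocallyNoetherian.component_noetherian ⟨U, hU⟩
    obtain ⟨ω, hω, ⟨e⟩⟩ := hK Γ(X, U) hU.fromSpec
    obtain ⟨d⟩ := Groth.KTheory.Perf.nonempty_hdRd hU.fromSpec K i
    exact Groth.QCohMod.isCoh_of_iso ((DerivedCategory.homologyFunctor _ i).mapIso e.symm ≪≫ d)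
      (Groth.AffDual.Bidual.isCohD_tildeD ω hω.finite_cohomology i)

/-- `RHom` on an affine chart where the dualizing complexes differ by a shift -/
theorem nonempty_rhom_chart {B : Type u} [CommRing B] [IsNoetherianRing B]
    (j : Spec (CommRingCat.of B) ⟶ X) [IsOpenImmersion j] {ω : Dual.D B} (hω : Dual.IsDualizing B ω)
    (m : ℤ) (M : CochainComplex X.Modules ℤ) [DCoh.HasLTensorCx M] [DCoh.HasRSheafHom M] (K : DCoh.D X)
    (cK : (DCoh.restrictD j).obj K ≅ (DCoh.tildeD (CommRingCat.of B)).obj ω)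
    (cM : (DCoh.restrictD j).obj (DCoh.toD X M) ≅ (DCoh.tildeD (CommRingCat.of B)).obj (ω⟦m⟧)) :
    ∃ n : ℤ, Nonempty ((DCoh.restrictD j).obj ((DCoh.RSheafHom M).obj K) ≅
      (DCoh.tildeD (CommRingCat.of B)).obj ((Dual.inD B B)⟦n⟧)) := by
  let L₀ := (KFlat.flatResolution X).obj M
  let π : L₀ ⟶ M := (KFlat.flatResolutionAug X).app M
  haveI : QuasiIso π := KFlat.flatResolution_quasiIso M
  haveI : IsIso (DerivedCategory.Q.map π) :=
    (DerivedCategory.isIso_Q_map_iff_quasiIso _ _).2 inferInstance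
  haveI := KFlat.hasLTensorCx L₀
  haveI := Groth.AffDual.QCohRHom.hasRSheafHom L₀
  obtain ⟨c⟩ := Groth.AffDual.Bidual.nonempty_rhom_flatResolution M
  let Lr := (resCx j).obj L₀
  haveI := KFlat.hasLTensorCx Lr
  haveI := Groth.AffDual.QCohRHom.hasRSheafHom Lr
  let T := (DerivedCategory.Q (C := ModuleCat.{u} B)).objPreimage (ω⟦m⟧)
  let eT : DRing.toD T ≅ ω⟦m⟧ := DerivedCategory.Q.objObjPreimageIso _
  haveI := Groth.DAlg.RHomCx.hasRHomCx T
  have hT : ∀ i : ℤ, Module.Finite B (Dual.HD B (DRing.toD T) i) := fun i =>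
    haveI := (Groth.DualCore.isDualizing_shift hω m).finite_cohomology i
    Module.Finite.equiv (Groth.DualCore.HDCongr eT i).symm
  let eL : DCoh.toD _ Lr ≅ (DCoh.tildeD (CommRingCat.of B)).obj (DRing.toD T) :=
    (Groth.DerivedCoh.Duality.rdQ j L₀).symm ≪≫
      (DCoh.restrictD j).mapIso (asIso (DerivedCategory.Q.map π)) ≪≫ cM ≪≫
      (DCoh.tildeD (CommRingCat.of B)).mapIso eT.symm
  obtain ⟨cT⟩ := Groth.AffDual.Main.main (R := CommRingCat.of B) T hT ω
    (Groth.AffDual.Bidual.hasFiniteInjDim_dualizing (R := CommRingCat.of B) ω hω) Lr ⟨eL⟩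
  obtain ⟨n, ⟨en⟩⟩ := nonempty_rhom_shift hω m T eT
  exact ⟨n, ⟨(DCoh.restrictD j).mapIso (c.app K) ≪≫ (restrRHomIso j L₀).app K ≪≫
    (DCoh.RSheafHom Lr).mapIso cK ≪≫ cT ≪≫ (DCoh.tildeD (CommRingCat.of B)).mapIso en⟩⟩

/-- two dualizing complexes on an affine chart differ by a shift near a point -/
theorem exists_chart_shift {A : Type u} [CommRing A] [IsNoetherianRing A]
    (j : Spec (CommRingCat.of A) ⟶ X) [IsOpenImmersion j] {K K' : DCoh.D X} {ω ω' : Dual.D A}
    (hω : Dual.IsDualizing A ω) (hω' : Dual.IsDualizing A ω')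
    (e : (DCoh.restrictD j).obj K ≅ (DCoh.tildeD (CommRingCat.of A)).obj ω)
    (e' : (DCoh.restrictD j).obj K' ≅ (DCoh.tildeD (CommRingCat.of A)).obj ω')
    (q : Spec (CommRingCat.of A)) :
    ∃ (B : Type u) (_ : CommRing B) (_ : IsNoetherianRing B) (j' : Spec (CommRingCat.of B) ⟶ X)
      (_ : IsOpenImmersion j') (ωB : Dual.D B) (m : ℤ), Dual.IsDualizing B ωB ∧ j q ∈ Set.range j' ∧
      Nonempty ((DCoh.restrictD j').obj K ≅ (DCoh.tildeD (CommRingCat.of B)).obj ωB) ∧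
      Nonempty ((DCoh.restrictD j').obj K' ≅ (DCoh.tildeD (CommRingCat.of B)).obj (ωB⟦m⟧)) := by
  haveI : q.asIdeal.IsPrime := q.isPrime
  obtain ⟨g, hg, m, ⟨eg⟩⟩ := exists_away_shift_iso hω hω' q.asIdeal
  let B := Localization.Away g
  haveI : IsNoetherianRing B := IsLocalization.isNoetherianRing (Submonoid.powers g) _ inferInstance
  haveI : Module.Flat A B := IsLocalization.flat B (Submonoid.powers g)
  let k := Spec.map (CommRingCat.ofHom (algebraMap A B))
  haveI : IsOpenImmersion k := inferInstanceAs (IsOpenImmersion (Groth.Dual3Gor.away A g))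
  obtain ⟨e1⟩ := Groth.Dual3Gor.nonempty_restrictD_comp k j (k ≫ j) rfl
  obtain ⟨e2⟩ := Groth.Dual3Gor.nonempty_restrictD_tildeD A B
  refine ⟨B, inferInstance, inferInstance, k ≫ j, inferInstance, _, m,
    Groth.DualCore.isDualizing_extD (Submonoid.powers g) hω, ?_,
    ⟨(e1.app K).symm ≪≫ (DCoh.restrictD k).mapIso e ≪≫ e2.app ω⟩,
    ⟨(e1.app K').symm ≪≫ (DCoh.restrictD k).mapIso e' ≪≫ e2.app ω' ≪≫ (DCoh.tildeD _).mapIso eg⟩⟩
  obtain ⟨r, hr⟩ : q ∈ Set.range k :=
    (PrimeSpectrum.localization_away_comap_range (Localization.Away g) g).ge hg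
  exact ⟨r, congrArg j hr⟩

/-- `RHom` between dualizing complexes is invertible -/
theorem isInvertibleD_rhom {K K' : DCoh.D X} (hK : Dual2.IsDualizingSch X K)
    (hK' : Dual2.IsDualizingSch X K') (M : CochainComplex X.Modules ℤ) (eM : DCoh.toD X M ≅ K')
    [DCoh.HasLTensorCx M] [DCoh.HasRSheafHom M] :
    Dual3.IsInvertibleD ((DCoh.RSheafHom M).obj K) := by
  refine Groth.Dual3Gor.invertibleD_of_forall_chart fun x => ?_
  obtain ⟨U, hU, hxU, -⟩ := exists_isAffineOpen_mem_and_subset (x := x) (TopologicalSpace.Opens.mem_top x)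
  haveI : IsNoetherianRing Γ(X, U) := IsLocallyNoetherian.component_noetherian ⟨U, hU⟩
  obtain ⟨ω, hω, ⟨e⟩⟩ := hK Γ(X, U) hU.fromSpec
  obtain ⟨ω', hω', ⟨e'⟩⟩ := hK' Γ(X, U) hU.fromSpec
  obtain ⟨q, rfl⟩ : x ∈ Set.range hU.fromSpec := by rw [hU.range_fromSpec]; exact hxU
  obtain ⟨B, iB, iN, j, ij, ωB, m, hωB, hx, ⟨cK⟩, ⟨cK'⟩⟩ :=
    exists_chart_shift (A := Γ(X, U)) hU.fromSpec hω hω' e e' q
  obtain ⟨n, hn⟩ := nonempty_rhom_chart j hωB m M K cK ((DCoh.restrictD j).mapIso eM ≪≫ cK')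
  exact ⟨B, iB, j, ij, n, hx, hn⟩

omit [IsLocallyNoetherian X] [∀ (R : CommRingCat.{u}), PreservesFiniteLimits (tilde.functor R)] in
/-- `O⟦n⟧` as a complex in one degree -/
theorem nonempty_single_shift (V : Scheme.{u}) (n : ℤ) :
    Nonempty ((DCoh.inD V (Coh.structureModule V))⟦n⟧ ≅
      DCoh.toD V ((single V.Modules (ComplexShape.up ℤ) (-n)).obj (Coh.structureModule V))) :=
  ⟨((DerivedCategory.singleFunctors V.Modules).shiftIso n (-n) 0 (by omega)).app _ ≪≫
    (DerivedCategory.singleFunctorIsoCompQ V.Modules (-n)).app _⟩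

omit [IsLocallyNoetherian X] [∀ (R : CommRingCat.{u}), PreservesFiniteLimits (tilde.functor R)] in
/-- invertible objects are perfect -/
theorem isPerfect_of_invertibleD {D : DCoh.D X} (h : Dual3.IsInvertibleD D) : DCoh.IsPerfect D := by
  rw [Groth.KTheory.Perf.isPerfect_iff]
  intro x
  obtain ⟨V, n, hx, ⟨e⟩⟩ := h x
  obtain ⟨s⟩ := nonempty_single_shift (V : Scheme.{u}) n
  exact ⟨V, hx, _, isStrictlyPerfect_single (N := Coh.structureModule (V : Scheme.{u})) dpUnit.fl (-n),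
    ⟨e ≪≫ s⟩⟩

omit [IsLocallyNoetherian X] [∀ (R : CommRingCat.{u}), PreservesFiniteLimits (tilde.functor R)] in
/-- the dual of an invertible object is invertible -/
theorem isInvertibleD_dual (D : CochainComplex X.Modules ℤ) (hD : IsKFlat (T X) D)
    (hinv : Dual3.IsInvertibleD (DCoh.toD X D)) [DCoh.HasLTensorCx D] [DCoh.HasRSheafHom D] :
    Dual3.IsInvertibleD ((DCoh.RSheafHom D).obj
      ((DerivedCategory.singleFunctor X.Modules 0).obj (Coh.structureModule X))) := by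
  intro x
  obtain ⟨V, n, hx, ⟨e⟩⟩ := hinv x
  obtain ⟨s⟩ := nonempty_single_shift (V : Scheme.{u}) n
  obtain ⟨t⟩ := nonempty_single_shift (V : Scheme.{u}) (-n)
  let O := Coh.structureModule (V : Scheme.{u})
  let E := (single (V : Scheme.{u}).Modules (ComplexShape.up ℤ) (-n)).obj O
  have hzE : ∀ q, q < -n ∨ -n < q → IsZero (E.X q) := fun q hq =>
    isZero_single_obj_X _ _ _ _ (by omega)
  let dp : ∀ q, DP (E.X q) := fun q =>
    if h : q = -n then dpOfIso dpUnit (eqToIso (by rw [h]) ≪≫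
      (singleObjXSelf (ComplexShape.up ℤ) (-n) O)).symm
    else dpZero (isZero_single_obj_X _ _ _ _ h)
  let δ : DualCx E := dualCxOf E (-n) (-n) hzE dp
  have hz : ∀ m, m ≠ n → IsZero (δ.V.X m) := fun m hm => by
    refine δ.zero m ?_
    show m ∉ Finset.Icc (- -n) (- -n)
    simp only [Finset.mem_Icc]
    omega
  have hn : δ.V.X n = O := by
    show (if h : -n < -n ∨ -n < -n then dpZero (hzE (-n) h) else dp (-n)).V = O
    rw [dif_neg (by omega)]
    simp only [dp, dif_pos]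
    rfl
  let eV : δ.V ≅ (single (V : Scheme.{u}).Modules (ComplexShape.up ℤ) n).obj O :=
    Hom.isoOfComponents (fun m => if h : m = n then
        eqToIso (by rw [h]; exact hn) ≪≫ (singleObjXSelf (ComplexShape.up ℤ) n O).symm ≪≫
          eqToIso (by rw [h])
      else (hz m h).iso (isZero_single_obj_X _ _ _ _ h))
      fun p q hpq => by
        change p + 1 = q at hpq
        by_cases hp : p = n
        · exact (isZero_single_obj_X _ _ _ _ (by omega)).eq_of_tgt _ _
        · exact (hz p hp).eq_of_src _ _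
  have hEp : DCoh.IsStrictlyPerfect E := isStrictlyPerfect_single (N := O) dpUnit.fl (-n)
  have hEf : IsKFlat (T _) E := PCoh.isKFlat_of_isStrictlyPerfect hEp
  have hVf := PCoh.isKFlat_of_isStrictlyPerfect δ.isStrictlyPerfect
  have hDV : IsKFlat (T _) ((resCx V.ι).obj D) := PCoh.isKFlat_rc V.ι hD
  haveI := KFlat.hasLTensorCx ((resCx V.ι).obj D)
  haveI := KFlat.hasLTensorCx E
  haveI := KFlat.hasLTensorCx δ.V
  obtain ⟨c⟩ := nonempty_ltcx_congr hDV hEf ((rdQ V.ι D).symm ≪≫ e ≪≫ s)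
  let adj : DCoh.LTensorCx ((resCx V.ι).obj D) ⊣ DCoh.LTensorCx δ.V :=
    (derivedTotAdj δ hEf hVf).ofNatIsoLeft c.symm
  haveI := adj.isLeftAdjoint
  let W := (single (V : Scheme.{u}).Modules (ComplexShape.up ℤ) 0).obj O
  refine ⟨V, -n, hx, ⟨(restrRHomIso V.ι D ≪≫ Functor.isoWhiskerLeft _
      ((DCoh.RSheafHomAdj ((resCx V.ι).obj D)).rightAdjointUniq adj)).app _ ≪≫
    (DCoh.LTensorCx δ.V).mapIso
      (((Scheme.Modules.restrictFunctor V.ι).mapDerivedCategorySingleFunctor 0).app (Coh.structureModule X) ≪≫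
        (DerivedCategory.singleFunctor _ 0).mapIso (Scheme.Modules.restrictUnitIso V.ι) ≪≫
        (DerivedCategory.singleFunctorIsoCompQ _ 0).app _) ≪≫ KFlat.ltcxIso δ.V hVf W ≪≫
    DerivedCategory.Q.mapIso ((Groth.DerivedCoh.KFlat.totR (T _) W).mapIso eV ≪≫
      Groth.DerivedCoh.KFlat.totSingleIso (T _) O _ ≪≫
      (((T (V : Scheme.{u})).obj O).mapHomologicalComplex (ComplexShape.up ℤ)).mapIso (Iso.refl _) ≪≫
      (singleMapHomologicalComplex ((T (V : Scheme.{u})).obj O) (ComplexShape.up ℤ) n).app O ≪≫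
      (single _ _ n).mapIso (rho O)) ≪≫
    (DerivedCategory.Q.mapIso (eqToIso (by rw [neg_neg]))) ≪≫ t.symm⟩⟩

/-- **dualizing complexes differ by an invertible object** -/
theorem exists_invertible (K K' : DCoh.D X) (hK : Dual2.IsDualizingSch X K)
    (hK' : Dual2.IsDualizingSch X K') :
    ∃ (E : CochainComplex X.Modules ℤ) (_ : DCoh.HasLTensorCx E),
      Dual3.IsInvertibleD (DCoh.toD X E) ∧ Nonempty (K' ≅ (DCoh.LTensorCx E).obj K) := by
  obtain ⟨N, ⟨eN⟩⟩ := Groth.KTheory.Perf.exists_rep K'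
  let M := (KFlat.flatResolution X).obj N
  haveI : IsIso (DerivedCategory.Q.map ((KFlat.flatResolutionAug X).app N)) :=
    (DerivedCategory.isIso_Q_map_iff_quasiIso _ _).2 (KFlat.flatResolution_quasiIso N)
  let eM : DCoh.toD X M ≅ K' :=
    asIso (DerivedCategory.Q.map ((KFlat.flatResolutionAug X).app N)) ≪≫ eN
  haveI := KFlat.hasLTensorCx M
  haveI := Groth.AffDual.QCohRHom.hasRSheafHom M
  have hMc : DCoh.IsCohD (DCoh.toD X M) :=
    Groth.IntMult.CohDTensor.isCohD_of_iso eM.symm (isCohD_dualizing hK')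
  obtain ⟨D₀, ⟨eD₀⟩⟩ := Groth.KTheory.Perf.exists_rep ((DCoh.RSheafHom M).obj K)
  let D := (KFlat.flatResolution X).obj D₀
  haveI : IsIso (DerivedCategory.Q.map ((KFlat.flatResolutionAug X).app D₀)) :=
    (DerivedCategory.isIso_Q_map_iff_quasiIso _ _).2 (KFlat.flatResolution_quasiIso D₀)
  let eD : DCoh.toD X D ≅ (DCoh.RSheafHom M).obj K :=
    asIso (DerivedCategory.Q.map ((KFlat.flatResolutionAug X).app D₀)) ≪≫ eD₀
  haveI := KFlat.hasLTensorCx D
  haveI := Groth.AffDual.QCohRHom.hasRSheafHom D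
  have hD := KFlat.flatResolution_isKFlat D₀
  have hinv : Dual3.IsInvertibleD (DCoh.toD X D) := fun x => by
    obtain ⟨U, n, hx, ⟨e⟩⟩ := isInvertibleD_rhom hK hK' M eM x
    exact ⟨U, n, hx, ⟨(DCoh.restrictD U.ι).mapIso eD ≪≫ e⟩⟩
  obtain ⟨bi⟩ := Groth.AffDual.Bidual.nonempty_bidual hK M hMc D eD
  obtain ⟨E₀, ⟨eE₀⟩⟩ := Groth.KTheory.Perf.exists_rep ((DCoh.RSheafHom D).obj
    ((DerivedCategory.singleFunctor X.Modules 0).obj (Coh.structureModule X)))
  let E := (KFlat.flatResolution X).obj E₀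
  haveI : IsIso (DerivedCategory.Q.map ((KFlat.flatResolutionAug X).app E₀)) :=
    (DerivedCategory.isIso_Q_map_iff_quasiIso _ _).2 (KFlat.flatResolution_quasiIso E₀)
  let eE := asIso (DerivedCategory.Q.map ((KFlat.flatResolutionAug X).app E₀)) ≪≫ eE₀
  haveI := KFlat.hasLTensorCx E
  obtain ⟨c⟩ := nonempty_ltensor_dual_iso D hD (isPerfect_of_invertibleD hinv) E
    (KFlat.flatResolution_isKFlat E₀) eE K
  refine ⟨E, inferInstance, fun x => ?_, ⟨eM.symm ≪≫ bi.symm ≪≫ c.symm⟩⟩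
  obtain ⟨U, n, hx, ⟨e⟩⟩ := isInvertibleD_dual D hD hinv x
  exact ⟨U, n, hx, ⟨(DCoh.restrictD U.ι).mapIso eE ≪≫ e⟩⟩

end Groth.DualUnique
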